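import Cfsg.Agent.H265.SpSix.Congr
import Cfsg.Agent.S1697
import Cfsg.Agent.Fischer.Fi23Class

/-!
# The row `Fi₂₃`

An involution of a class of odd size commutes with a conjugate of `A`, hence is in the class of the elements of `A`;
the product of two commuting 3-transpositions is not a transposition.
-/

set_option autoImplicit false

namespace Cfsg.Agent.H265.SpSix

open Cfsg Cfsg.Agent.H336.SpSix

/-- if `a`, `b` and `a b` are commuting 3-transpositions then `a b` commutes with all 3-transpositions -/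
theorem comm_of_three {G : Type*} [Group G] {D : Set G} (hD : IsThreeTranspositionSet D) {a b d : G} (ha : a ∈ D)
    (hb : b ∈ D) (hab : a * b ∈ D) (hc : a * b = b * a) (hd : d ∈ D) : d * (a * b) = a * b * d := by
  have sq : ∀ x ∈ D, x * x = 1 := fun x hx => by
    have := pow_orderOf_eq_one x
    rwa [hD.1 x hx, pow_two] at this
  have ne1 : ∀ x ∈ D, x ≠ 1 := fun x hx h1 => by
    have := hD.1 x hx
    rw [h1, orderOf_one] at this
    exact absurd this (by norm_num)
  have com : ∀ x ∈ D, ∀ y ∈ D, (x * y) ^ 2 = 1 → x * y = y * x := fun x hx y hy h1 => by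
    have h2 : x⁻¹ = x := inv_eq_of_mul_eq_one_left (sq x hx)
    have h3 : y⁻¹ = y := inv_eq_of_mul_eq_one_left (sq y hy)
    have h4 : (x * y)⁻¹ = x * y := inv_eq_of_mul_eq_one_left (by rw [← pow_two, h1])
    rw [mul_inv_rev, h2, h3] at h4
    exact h4.symm
  have brd : ∀ x ∈ D, ∀ y ∈ D, (x * y) ^ 3 = 1 → x * y * x = y * x * y := fun x hx y hy h1 => by
    have h2 : x⁻¹ = x := inv_eq_of_mul_eq_one_left (sq x hx)
    have h3 : y⁻¹ = y := inv_eq_of_mul_eq_one_left (sq y hy)
    have h4 : (x * y * x) * (y * x * y) = 1 := by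
      rw [← h1]; simp only [pow_succ, pow_zero, one_mul, mul_assoc]
    have h5 : x * y * x = (y * x * y)⁻¹ := eq_inv_of_mul_eq_one_left h4
    rw [h5, mul_inv_rev, mul_inv_rev, h2, h3, mul_assoc]
  have sa := sq a ha
  have sb := sq b hb
  have sd := sq d hd
  rcases hD.2 d hd _ hab with h1 | h1
  · exact com d hd _ hab h1
  rcases hD.2 d hd a ha with h2 | h2 <;> rcases hD.2 d hd b hb with h3 | h3
  · rw [← mul_assoc, com d hd a ha h2, mul_assoc, com d hd b hb h3, mul_assoc]
  · exfalso
    have h4 : Commute (d * b) a := by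
      show d * b * a = a * (d * b)
      rw [mul_assoc, ← hc, ← mul_assoc, com d hd a ha h2, mul_assoc]
    have h5 : (d * (a * b)) ^ 3 = a := by
      rw [hc, ← mul_assoc, h4.mul_pow, h3, one_mul, pow_succ, pow_two, sa, one_mul]
    rw [h1] at h5
    exact ne1 a ha h5.symm
  · exfalso
    have h4 : Commute (d * a) b := by
      show d * a * b = b * (d * a)
      rw [mul_assoc, hc, ← mul_assoc, com d hd b hb h3, mul_assoc]
    have h5 : (d * (a * b)) ^ 3 = b := by
      rw [← mul_assoc, h4.mul_pow, h2, one_mul, pow_succ, pow_two, sb, one_mul]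
    rw [h1] at h5
    exact ne1 b hb h5.symm
  · have e1 := brd d hd a ha h2
    have e2 := brd d hd b hb h3
    have h5 : (d * (a * b)) ^ 3 = a * b * d := by
      calc (d * (a * b)) ^ 3 = d * (a * b) * (d * (a * b)) * (d * (a * b)) := by
            simp only [pow_succ, pow_zero, one_mul]
        _ = d * (a * b) * (d * (b * a)) * (d * (a * b)) := by rw [← hc]
        _ = d * a * (b * d * b) * (a * d * a) * b := by simp only [mul_assoc]
        _ = d * a * (d * b * d) * (d * a * d) * b := by rw [← e1, ← e2]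
        _ = (d * a * d) * b * (d * d) * a * d * b := by simp only [mul_assoc]
        _ = (a * d * a) * b * a * d * b := by rw [sd, mul_one, e1]
        _ = a * d * a * (b * a) * d * b := by simp only [mul_assoc]
        _ = a * d * a * (a * b) * d * b := by rw [← hc]
        _ = a * d * (a * a) * b * d * b := by simp only [mul_assoc]
        _ = a * (d * b * d) * b := by rw [sa, mul_one]; simp only [mul_assoc]
        _ = a * (b * d * b) * b := by rw [e2]
        _ = a * b * d * (b * b) := by simp only [mul_assoc]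
        _ = a * b * d := by rw [sb, mul_one]
    rw [h1] at h5
    have h6 : a * b = d⁻¹ := eq_inv_of_mul_eq_one_left h5.symm
    rw [h6, mul_inv_cancel, inv_mul_cancel]

variable {K : Type*} [Group K] {th : V → K} {O K0 : Subgroup K}

/-- a conjugation invariant set of odd size contains an element commuting with `A` -/
theorem exists_comm (h : Sit th O K0) {D : Set K} (hD : ∀ g : K, ∀ d ∈ D, g * d * g⁻¹ ∈ D)
    (hodd : ¬ 2 ∣ Nat.card D) : ∃ d ∈ D, ∀ v, d * th v = th v * d := by
  let act : MulAction h.A D :=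
    { smul := fun g d => ⟨g.1 * d.1 * g.1⁻¹, hD _ _ d.2⟩
      one_smul := fun d => Subtype.ext (by show 1 * d.1 * 1⁻¹ = d.1; group)
      mul_smul := fun g g' d => Subtype.ext (by
        show g.1 * g'.1 * d.1 * (g.1 * g'.1)⁻¹ = g.1 * (g'.1 * d.1 * g'.1⁻¹) * g.1⁻¹; group) }
  have hp : IsPGroup 2 h.A := IsPGroup.of_card (n := 6) (by rw [h.card_A]; norm_num)
  obtain ⟨d, hd⟩ := hp.nonempty_fixed_point_of_prime_not_dvd_card D hodd
  refine ⟨d.1, d.2, fun v => ?_⟩
  have h1 : th v * d.1 * (th v)⁻¹ = d.1 := congrArg Subtype.val (hd ⟨th v, h.th_mem v⟩)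
  nth_rewrite 1 [← h1]
  rw [inv_mul_cancel_right]

/-- an involution whose class has odd size is conjugate to the elements of `A` -/
theorem mem_of_odd (h : Sit th O K0) {D : Set K} (hD : ∀ g : K, ∀ d ∈ D, g * d * g⁻¹ ∈ D)
    (h2 : ∀ d ∈ D, d * d = 1) (h1 : ∀ d ∈ D, d ≠ 1) (hodd : ¬ 2 ∣ Nat.card D) {v : V} (hv : v ≠ 0) : th v ∈ D := by
  obtain ⟨d, hd, hc⟩ := exists_comm h hD hodd
  obtain ⟨u, hu⟩ := h.mem_of_mul_self hc (h2 d hd)
  have hu0 : u ≠ 0 := fun h0 => h1 d hd (by rw [← hu, h0, h.zero])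
  obtain ⟨k, -, hk⟩ := h.exists_conj hu0 hv
  rw [← hk, hu]
  exact hD k d hd

/-- no class of 3-transpositions of odd size -/
theorem three (h : Sit th O K0) {D : Set K} (hD : IsThreeTranspositionClass D) (hodd : ¬ 2 ∣ Nat.card D) : False := by
  obtain ⟨hs, ⟨d0, hd0, hDd⟩, hcl⟩ := hD
  have hinv : ∀ g : K, ∀ d ∈ D, g * d * g⁻¹ ∈ D := by
    intro g d hd
    rw [hDd] at hd ⊢
    exact (show IsConj d0 _ from IsConj.trans hd (isConj_iff.2 ⟨g, rfl⟩))
  have hm : ∀ {v : V}, v ≠ 0 → th v ∈ D := fun {v} hv => mem_of_odd h hinv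
    (fun d hd => by
      have := pow_orderOf_eq_one d
      rwa [hs.1 d hd, pow_two] at this)
    (fun d hd h1 => by
      have := hs.1 d hd
      rw [h1, orderOf_one] at this
      exact absurd this (by norm_num)) hodd hv
  have e1 : (Pi.single (Sum.inl 0) 1 : V) ≠ 0 := by decide
  have e2 : (Pi.single (Sum.inl 1) 1 : V) ≠ 0 := by decide
  have e3 : (Pi.single (Sum.inl 0) 1 + Pi.single (Sum.inl 1) 1 : V) ≠ 0 := by decide
  have e4 : (Pi.single (Sum.inl 0) 1 + Pi.single (Sum.inl 1) 1 : V) ≠ Pi.single (Sum.inl 0) 1 := by decide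
  have hc : ∀ d ∈ D, d * th (Pi.single (Sum.inl 0) 1 + Pi.single (Sum.inl 1) 1) =
      th (Pi.single (Sum.inl 0) 1 + Pi.single (Sum.inl 1) 1) * d := by
    intro d hd
    rw [h.add]
    exact comm_of_three hs (hm e1) (hm e2) (by rw [← h.add]; exact hm e3) (h.comm _ _) hd
  have hz : th (Pi.single (Sum.inl 0) 1 + Pi.single (Sum.inl 1) 1) ∈ Subgroup.centralizer (Set.univ : Set K) := by
    have h1 : Subgroup.closure D ≤
        Subgroup.centralizer ({th (Pi.single (Sum.inl 0) 1 + Pi.single (Sum.inl 1) 1)} : Set K) := by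
      rw [Subgroup.closure_le]
      intro d hd
      rw [SetLike.mem_coe, Subgroup.mem_centralizer_singleton_iff]
      exact (hc d hd)
    rw [Subgroup.mem_centralizer_iff]
    intro g _
    have h3 : g ∈ Subgroup.centralizer ({th (Pi.single (Sum.inl 0) 1 + Pi.single (Sum.inl 1) 1)} : Set K) :=
      h1 (hcl ▸ Subgroup.mem_top g)
    rw [Subgroup.mem_centralizer_singleton_iff] at h3
    exact h3
  obtain ⟨k, -, hk⟩ := h.exists_conj e3 e1
  have h4 := Subgroup.mem_centralizer_iff.1 hz k (Set.mem_univ _)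
  rw [h4, mul_inv_cancel_right] at hk
  exact e4 (h.inj hk)

theorem fi23 (hK : Spor.IsoFi23 K) (h : Sit th O K0) : False := by
  obtain ⟨e⟩ := hK
  have h23 := Cfsg.Agent.S1697.result
  have hcard : Nat.card Cfsg.Spor.Fi23 = 4089470473293004800 := h23.2
  have hfin : Finite Cfsg.Spor.Fi23 := Nat.finite_of_card_ne_zero (by rw [hcard]; norm_num)
  obtain ⟨R, hR, hR0⟩ := Cfsg.Agent.Fischer.Fi23Class.exists_rank3 hcard.le
  have hD := R.isThreeTranspositionClass
  have hn : Nat.card (Set.range R.t) = 31671 := by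
    rw [R.card_range, ← Subgroup.index_eq_card]
    exact Cfsg.Agent.SporRec.Fi23Index.index_H
  refine three (congr h e) hD ?_
  rw [show Nat.card ↑(Set.range R.t) = 31671 from hn]
  norm_num

end Cfsg.Agent.H265.SpSix
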