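import Mathlib

/-!
# Centralisers of involutions of the alternating group of degree nine

* `alt9` : 320 does not divide the order of the centraliser of an involution of `A₉`;
* `le_of_odd_index` : a normal 2-subgroup is contained in every subgroup of odd index.
-/

set_option autoImplicit false

namespace Cfsg.Agent.H265.SpSix

open Equiv Equiv.Perm

theorem card_mul_relIndex {G : Type*} [Group G] {K L : Subgroup G} (h : K ≤ L) :
    Nat.card K * K.relIndex L = Nat.card L := by
  have := Subgroup.relIndex_mul_relIndex ⊥ K L bot_le h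
  rwa [Subgroup.relIndex_bot_left, Subgroup.relIndex_bot_left] at this

/-- a normal 2-subgroup is contained in every subgroup of odd index -/
theorem le_of_odd_index {G : Type*} [Group G] [Finite G] {Q H : Subgroup G} [Q.Normal] {p n : ℕ} (hp : p.Prime)
    (hQ : Nat.card Q = p ^ n) (hH : ¬ p ∣ H.index) : Q ≤ H := by
  have h1 : H.relIndex (H ⊔ Q) ∣ H.index := Subgroup.relIndex_dvd_index_of_le le_sup_left
  have e1 : H.relIndex (H ⊔ Q) * Nat.card H = Nat.card (H ⊔ Q : Subgroup G) := by
    rw [mul_comm]; exact card_mul_relIndex le_sup_left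
  have e2 : Q.relIndex (H ⊔ Q) * Nat.card Q = Nat.card (H ⊔ Q : Subgroup G) := by
    rw [mul_comm]; exact card_mul_relIndex le_sup_right
  have e3 : Nat.card (H ⊓ Q : Subgroup G) * (H ⊓ Q).relIndex H = Nat.card H :=
    card_mul_relIndex inf_le_left
  have e4 : Nat.card (H ⊓ Q : Subgroup G) * (H ⊓ Q).relIndex Q = Nat.card Q :=
    card_mul_relIndex inf_le_right
  rw [Subgroup.inf_relIndex_left] at e3
  rw [Subgroup.inf_relIndex_right] at e4
  rw [Subgroup.relIndex_sup_right] at e2
  have e5 : H.relIndex (H ⊔ Q) = H.relIndex Q := by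
    have h2 : 0 < Nat.card (H ⊓ Q : Subgroup G) := Nat.card_pos
    have h3 : 0 < Q.relIndex H := by
      have : 0 < Nat.card H := Nat.card_pos
      rw [← e3] at this
      exact Nat.pos_of_ne_zero fun h0 => by rw [h0, mul_zero] at this; exact absurd this (lt_irrefl _)
    have h4 : Nat.card (H ⊓ Q : Subgroup G) * Q.relIndex H * H.relIndex (H ⊔ Q) =
        Nat.card (H ⊓ Q : Subgroup G) * Q.relIndex H * H.relIndex Q := by
      calc _ = H.relIndex (H ⊔ Q) * Nat.card H := by rw [e3]; ring
        _ = Q.relIndex H * Nat.card Q := by rw [e1, e2]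
        _ = _ := by rw [← e4]; ring
    exact Nat.eq_of_mul_eq_mul_left (by positivity) h4
  have h6 : H.relIndex Q ∣ p ^ n := by
    rw [← hQ, ← e4]; exact dvd_mul_left _ _
  have h7 : H.relIndex Q = 1 := by
    obtain ⟨k, -, hk⟩ := (Nat.dvd_prime_pow hp).1 h6
    rcases k with _ | k
    · rw [hk, pow_zero]
    · exfalso
      apply hH
      rw [e5, hk] at h1
      exact (dvd_pow_self p (Nat.succ_ne_zero k)).trans h1
  exact Subgroup.relIndex_eq_one.1 h7

theorem alt9 (b : alternatingGroup (Fin 9)) (hb : b * b = 1) (hb1 : b ≠ 1) :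
    ¬ 320 ∣ Nat.card (Subgroup.centralizer ({b} : Set (alternatingGroup (Fin 9)))) := by
  classical
  have : Fact (Nat.Prime 2) := ⟨Nat.prime_two⟩
  set c : Perm (Fin 9) := b.1 with hc
  have hcc : c ^ 2 = 1 := by rw [pow_two]; exact congrArg Subtype.val hb
  have hc1 : c ≠ 1 := fun h => hb1 (Subtype.ext h)
  obtain ⟨n, hn⟩ : ∃ n, c.cycleType = Multiset.replicate n 2 :=
    ⟨_, Multiset.eq_replicate.2 ⟨rfl, pow_prime_eq_one_iff.1 hcc⟩⟩
  have hsum : 2 * n ≤ 9 := by
    have h1 := c.sum_cycleType
    rw [hn, Multiset.sum_replicate, smul_eq_mul] at h1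
    have h2 : c.support.card ≤ 9 := by
      have := Finset.card_le_univ c.support
      simpa using this
    omega
  have hn0 : n ≠ 0 := by
    rintro rfl
    rw [Multiset.replicate_zero, cycleType_eq_zero] at hn
    exact hc1 hn
  have heven : Even n := by
    have h1 : sign c = 1 := b.2
    rw [sign_of_cycleType, hn, Multiset.sum_replicate, Multiset.card_replicate, smul_eq_mul] at h1
    rcases Nat.even_or_odd n with h | h
    · exact h
    · exfalso
      have h2 : Odd (n * 2 + n) := by
        rw [Nat.odd_add]
        exact ⟨fun ho => absurd ho (by rw [Nat.not_odd_iff_even]; exact even_two.mul_left n),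
          fun he => absurd h (by rw [Nat.not_odd_iff_even]; exact he)⟩
      rw [h2.neg_one_pow] at h1
      revert h1
      decide
  have hcases : n = 2 ∨ n = 4 := by
    have : n ≤ 4 := by omega
    interval_cases n
    · exact absurd rfl hn0
    · exact absurd heven (by decide)
    · left; rfl
    · exact absurd heven (by decide)
    · right; rfl
  have hS := nat_card_centralizer c
  rw [hn, Multiset.sum_replicate, Multiset.prod_replicate] at hS
  -- the centraliser in the alternating group embeds
  let j : Subgroup.centralizer ({b} : Set (alternatingGroup (Fin 9))) →*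
      Subgroup.centralizer ({c} : Set (Perm (Fin 9))) :=
    { toFun := fun x => ⟨x.1.1, by
        rw [Subgroup.mem_centralizer_singleton_iff]
        exact congrArg Subtype.val (Subgroup.mem_centralizer_singleton_iff.1 x.2)⟩
      map_one' := rfl
      map_mul' := fun _ _ => rfl }
  have hj : Function.Injective j := fun x y h => Subtype.ext (Subtype.ext (congrArg (fun z => z.1) h))
  rcases hcases with rfl | rfl
  · have h1 : Nat.card (Subgroup.centralizer ({c} : Set (Perm (Fin 9)))) = 960 := by
      rw [hS]; decide
    obtain ⟨x, hx⟩ : ∃ x, c x ≠ x := by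
      by_contra h
      push Not at h
      exact hc1 (Equiv.ext h)
    have hcx : c (c x) = x := by
      have := congrArg (fun f : Perm (Fin 9) => f x) hcc
      simpa [pow_two] using this
    let σ : Subgroup.centralizer ({c} : Set (Perm (Fin 9))) →* ℤˣ :=
      (sign (α := Fin 9)).comp (Subgroup.subtype _)
    have hσ : Function.Surjective σ := by
      intro u
      rcases Int.units_eq_one_or u with rfl | rfl
      · exact ⟨1, map_one _⟩
      · refine ⟨⟨swap x (c x), ?_⟩, ?_⟩
        · rw [Subgroup.mem_centralizer_singleton_iff]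
          have h3 : c * swap x (c x) * c⁻¹ = swap (c x) (c (c x)) := by
            rw [Equiv.mul_swap_eq_swap_mul, mul_inv_cancel_right]
          rw [hcx, swap_comm (c x) x] at h3
          have h4 : c * swap x (c x) = swap x (c x) * c := by
            nth_rewrite 2 [← h3]
            rw [inv_mul_cancel_right]
          exact h4.symm
        · exact sign_swap hx.symm
    have h2 : j.range = σ.ker := by
      ext y
      constructor
      · rintro ⟨z, rfl⟩
        exact z.1.2
      · intro hy
        refine ⟨⟨⟨y.1, hy⟩, ?_⟩, rfl⟩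
        rw [Subgroup.mem_centralizer_singleton_iff]
        exact Subtype.ext (Subgroup.mem_centralizer_singleton_iff.1 y.2)
    have h3 : Nat.card (Subgroup.centralizer ({b} : Set (alternatingGroup (Fin 9)))) = Nat.card σ.ker := by
      rw [← h2]
      exact Nat.card_congr (MonoidHom.ofInjective hj).toEquiv
    have h4 := Subgroup.card_eq_card_quotient_mul_card_subgroup σ.ker
    rw [Nat.card_congr (QuotientGroup.quotientKerEquivOfSurjective σ hσ).toEquiv, h1, ← h3] at h4
    have h5 : Nat.card ℤˣ = 2 := by rw [Nat.card_eq_fintype_card]; rfl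
    rw [h5] at h4
    intro h6
    omega
  · intro h6
    have h7 : Nat.card (Subgroup.centralizer ({b} : Set (alternatingGroup (Fin 9)))) ∣
        Nat.card (Subgroup.centralizer ({c} : Set (Perm (Fin 9)))) := Subgroup.card_dvd_of_injective j hj
    have h1 : Nat.card (Subgroup.centralizer ({c} : Set (Perm (Fin 9)))) = 384 := by
      rw [hS]; decide
    rw [h1] at h7
    exact absurd (h6.trans h7) (by decide)

end Cfsg.Agent.H265.SpSix
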