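import Cfsg.Agent.H336.SpSix.Def

/-!
# Transport of the situation along isomorphisms
-/

set_option autoImplicit false

namespace Cfsg.Agent.H265.SpSix

open Cfsg.Agent.H336.SpSix

theorem congr {K L : Type*} [Group K] [Group L] {th : V → K} {O K0 : Subgroup K} (h : Sit th O K0) (e : K ≃* L) :
    Sit (fun v => e (th v)) (O.map e.toMonoidHom) (K0.map e.toMonoidHom) := by
  have nrm : ∀ n : L, (∀ v, ∃ u, n * e (th v) * n⁻¹ = e (th u)) →
      ∀ v, ∃ u, e.symm n * th v * (e.symm n)⁻¹ = th u := by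
    intro n hn v
    obtain ⟨u, hu⟩ := hn v
    refine ⟨u, e.injective ?_⟩
    rw [map_mul, map_mul, map_inv, e.apply_symm_apply, hu]
  have tr : ∀ (n : L) (v u : V), n * e (th v) * n⁻¹ = e (th u) → e.symm n * th v * (e.symm n)⁻¹ = th u := by
    intro n v u hu
    apply e.injective
    rw [map_mul, map_mul, map_inv, e.apply_symm_apply, hu]
  refine ⟨fun u v => ?_, fun u v huv => h.inj (e.injective huv), ?_, ?_, ?_, ?_, ?_, ?_, ?_, ?_, ?_⟩
  · rw [h.add, map_mul]
  · rw [Nat.card_congr (O.equivMapOfInjective e.toMonoidHom e.injective).toEquiv.symm]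
    exact h.odd
  · rintro _ ⟨x, hx, rfl⟩ v
    show e x * e (th v) = e (th v) * e x
    rw [← map_mul, h.oc x hx, map_mul]
  · rintro _ ⟨x, hx, rfl⟩ n hn
    refine ⟨e.symm n * x * (e.symm n)⁻¹, h.oN x hx _ (nrm n hn), ?_⟩
    show e (e.symm n * x * (e.symm n)⁻¹) = n * e x * n⁻¹
    rw [map_mul, map_mul, map_inv, e.apply_symm_apply]
  · intro x hx
    obtain ⟨o, ho, v, hov⟩ := h.cent (e.symm x) (fun v => by
      apply e.injective
      rw [map_mul, map_mul, e.apply_symm_apply, hx])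
    refine ⟨e o, ⟨o, ho, rfl⟩, v, ?_⟩
    rw [← map_mul, ← hov, e.apply_symm_apply]
  · intro n hn u v u' v' hu hv
    exact h.act (e.symm n) (nrm n hn) u v u' v' (tr n u u' hu) (tr n v v' hv)
  · rintro _ ⟨k, hk, rfl⟩ v
    obtain ⟨u, hu⟩ := h.k0 k hk v
    refine ⟨u, ?_⟩
    show e k * e (th v) * (e k)⁻¹ = e (th u)
    rw [← hu, map_mul, map_mul, map_inv]
  · exact Subgroup.map_mono h.le
  · rintro _ ⟨k, hk, rfl⟩ hc
    refine ⟨k, h.k0c k hk fun v => ?_, rfl⟩
    apply e.injective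
    rw [map_mul, map_mul]
    exact hc v
  · intro g hg
    obtain ⟨k, hk, hk'⟩ := h.full g hg
    refine ⟨e k, ⟨k, hk, rfl⟩, fun v => ?_⟩
    rw [← hk' v, map_mul, map_mul, map_inv]

end Cfsg.Agent.H265.SpSix
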