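import Cfsg.Agent.H265.SpSix.Lin
import Cfsg.Agent.SigZeroCo2.Lin
import Cfsg.Agent.CoOneType.CoOneE

/-!
# The rows `Co₁` and `Co₂`

The rational representation of `Co₀` of degree 24.
-/

set_option autoImplicit false

namespace Cfsg.Agent.H265.SpSix

open Cfsg Cfsg.Agent.H336.SpSix Module
open Cfsg.Agent.SporadicStructure.Co0Base (e8)
open Cfsg.Agent.SporadicA.Co0Mono (signCo0)
open Cfsg.Agent.SporadicA.Co1Simple (allOne allOne_smul)

theorem finrank_sp : finrank ℚ SigZeroCo2.Lin.Sp = 24 := by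
  rw [Module.finrank_fintype_fun_eq_card]
  decide

theorem rep_allOne : SigZeroCo2.Lin.rep (signCo0 allOne) = -1 := by
  refine SigZeroCo2.Lin.ext_e8 fun i => ?_
  rw [SigZeroCo2.Lin.rep_toV, allOne_smul, SigZeroCo2.Lin.toV_neg]
  rfl

variable {K : Type*} [Group K] {th : V → K} {O K0 : Subgroup K}

theorem co1 (hK : Spor.IsoCo1 K) (h : Sit th O K0) : False := by
  obtain ⟨e⟩ := hK
  let π : Co0 →* K := (e.symm : Spor.Co1 →* K).comp (QuotientGroup.mk' (Subgroup.center Co0))
  have hπ : Function.Surjective π := e.symm.surjective.comp (QuotientGroup.mk'_surjective _)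
  have hk : ∀ x : Co0, π x = 1 ↔ x ∈ Subgroup.center Co0 := by
    intro x
    rw [← QuotientGroup.eq_one_iff (N := Subgroup.center Co0) x]
    exact (MulEquiv.map_eq_one_iff e.symm)
  obtain ⟨v, hv⟩ : ∃ v : V, v ≠ 0 := ⟨Pi.single (Sum.inl 0) 1, by decide⟩
  obtain ⟨x, hx⟩ := hπ (th v)
  have h1 := proj h π hπ (F := ℚ) (by norm_num) SigZeroCo2.Lin.rep (fun x hx => by
    rcases (CoOneType.CoOneE.mem_center_iff x).1 ((hk x).1 hx) with rfl | rfl
    · left; rw [map_one]
    · right; exact rep_allOne) (by rw [finrank_sp]; norm_num) hx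
  have h2 : x ∈ Subgroup.center Co0 := by
    rw [CoOneType.CoOneE.mem_center_iff]
    rcases h1 with h1 | h1
    · left; exact SigZeroCo2.Lin.rep_injective (by rw [h1, map_one])
    · right; exact SigZeroCo2.Lin.rep_injective (by rw [h1, rep_allOne])
  rw [(hk x).2 h2] at hx
  exact hv ((h.eq_one_iff v).1 hx.symm)

theorem co2 (hK : Spor.IsoCo2 K) (h : Sit th O K0) : False := by
  obtain ⟨e⟩ := hK
  let ρ : K →* Module.End ℚ SigZeroCo2.Lin.Sp := SigZeroCo2.Lin.rep.comp (Co2Type.Mono.toCo0.comp (e : K →* Spor.Co2))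
  have hρ : Function.Injective ρ := SigZeroCo2.Lin.rep_injective.comp
    (Function.Injective.comp (g := Co2Type.Mono.toCo0) (Subgroup.inclusion_injective _) e.injective)
  obtain ⟨v, hv⟩ : ∃ v : V, v ≠ 0 := ⟨Pi.single (Sum.inl 0) 1, by decide⟩
  have h1 := lin h (F := ℚ) (by norm_num) ρ (by rw [finrank_sp]; norm_num) v
  exact hv ((h.eq_one_iff v).1 (hρ (by rw [h1, map_one])))

end Cfsg.Agent.H265.SpSix
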