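import Cfsg.Agent.H336.SpSix.Def

/-!
# Symplectic elementary abelian groups of order 64 in linear groups of small degree

* `Pr s` : `s : V → End W` is a projective system of commuting involutions;
* `Mv s g` : some invertible linear map carries `s v` to `± s (g v)`;
* `Pr.scalar` : if all isometries are realised and `dim W < 28` then all `s v` are scalars `± 1`;
* `Sit.proj` : `Sit th O K0` in a group `K`, `π : Kt → K` onto, `ρ` a representation of `Kt` of degree less than 28
  in which the kernel of `π` acts by `± 1`: then the preimages of the elements `th v` act as `± 1`;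
* `Sit.lin` : a representation of `K` of degree less than 63 over a field of characteristic not 2 is trivial on `A`.
-/

set_option autoImplicit false

namespace Cfsg.Agent.H265.SpSix

open Cfsg.Agent.H336.SpSix Module

variable {F W : Type*} [Field F] [AddCommGroup W] [Module F W]

/-! ### involutions are diagonalisable -/

theorem maxGen_eq (h2 : (2 : F) ≠ 0) {f : Module.End F W} (h : f * f = 1) (μ : F) :
    f.maxGenEigenspace μ = f.eigenspace μ := by
  refine Module.End.IsFinitelySemisimple.maxGenEigenspace_eq_eigenspace ?_ μ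
  refine Module.End.IsSemisimple.isFinitelySemisimple ?_
  refine Module.End.isSemisimple_of_squarefree_aeval_eq_zero (p := Polynomial.X ^ 2 - 1) ?_ ?_
  · refine Polynomial.Separable.squarefree ?_
    exact (Polynomial.X_pow_sub_one_separable_iff).2 (by exact_mod_cast h2)
  · simp [pow_two, h]

theorem iSup_eigen (h2 : (2 : F) ≠ 0) {f : Module.End F W} (h : f * f = 1) :
    ⨆ μ, f.eigenspace μ = ⊤ := by
  rw [eq_top_iff]
  intro x _
  have hff : f (f x) = x := by
    have := congrArg (fun g : Module.End F W => g x) h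
    simpa using this
  have hx : x = (2 : F)⁻¹ • (x + f x) + (2 : F)⁻¹ • (x - f x) := by
    rw [← smul_add, add_add_sub_cancel, ← two_smul F x, smul_smul, inv_mul_cancel₀ h2, one_smul]
  rw [hx]
  refine Submodule.add_mem _ ?_ ?_
  · refine Submodule.smul_mem _ _ ((le_iSup (fun μ => f.eigenspace μ) 1) ?_)
    rw [Module.End.mem_eigenspace_iff, map_add, hff, one_smul, add_comm]
  · refine Submodule.smul_mem _ _ ((le_iSup (fun μ => f.eigenspace μ) (-1)) ?_)
    rw [Module.End.mem_eigenspace_iff, map_sub, hff, neg_smul, one_smul, neg_sub]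

/-- the joint eigenspace -/
def wt {ι : Type*} (s : ι → Module.End F W) (χ : ι → F) : Submodule F W := ⨅ i, (s i).eigenspace (χ i)

theorem mem_wt {ι : Type*} {s : ι → Module.End F W} {χ : ι → F} {w : W} :
    w ∈ wt s χ ↔ ∀ i, s i w = χ i • w := by
  rw [wt, Submodule.mem_iInf]
  exact forall_congr' fun i => Module.End.mem_eigenspace_iff

theorem wt_indep {ι : Type*} (h2 : (2 : F) ≠ 0) {s : ι → Module.End F W} (h : ∀ i, s i * s i = 1)
    (hc : ∀ i j, s i * s j = s j * s i) : iSupIndep fun χ : ι → F => wt s χ := by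
  have h1 := Module.End.independent_iInf_maxGenEigenspace_of_forall_mapsTo (f := s)
    (fun i j φ => Module.End.mapsTo_maxGenEigenspace_of_comm (hc j i) φ)
  simp only [maxGen_eq h2 (h _)] at h1
  exact h1

theorem wt_top {ι : Type*} (h2 : (2 : F) ≠ 0) [FiniteDimensional F W] {s : ι → Module.End F W}
    (h : ∀ i, s i * s i = 1) (hc : ∀ i j, s i * s j = s j * s i) : ⨆ χ : ι → F, wt s χ = ⊤ := by
  have h1 := Module.End.iSup_iInf_maxGenEigenspace_eq_top_of_forall_mapsTo (f := s)
    (fun i j φ => Module.End.mapsTo_maxGenEigenspace_of_comm (hc j i) φ) (fun i => by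
      simp only [maxGen_eq h2 (h _)]
      exact iSup_eigen h2 (h i))
  simp only [maxGen_eq h2 (h _)] at h1
  exact h1

/-! ### signs -/

/-- the sign of an element of the field of order two -/
def sg (F : Type*) [Field F] (c : ZMod 2) : F := if c = 0 then 1 else -1

theorem sg_zero : sg F 0 = 1 := if_pos rfl

theorem sg_one : sg F 1 = -1 := if_neg (by decide)

theorem sg_add (a b : ZMod 2) : sg F (a + b) = sg F a * sg F b := by
  rcases z2 a with rfl | rfl <;> rcases z2 b with rfl | rfl
  · rw [add_zero, sg_zero, one_mul]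
  · rw [zero_add, sg_zero, one_mul]
  · rw [add_zero, sg_zero, mul_one]
  · rw [z2_add_self, sg_zero, sg_one]; ring

theorem sg_ne (h2 : (2 : F) ≠ 0) : (1 : F) ≠ -1 := fun h => h2 (by
  have : (2 : F) = 1 + 1 := by norm_num
  rw [this]; nth_rewrite 2 [h]; ring)

theorem sg_inj (h2 : (2 : F) ≠ 0) {a b : ZMod 2} (h : sg F a = sg F b) : a = b := by
  rcases z2 a with rfl | rfl <;> rcases z2 b with rfl | rfl
  · rfl
  · rw [sg_zero, sg_one] at h; exact absurd h (sg_ne h2)
  · rw [sg_zero, sg_one] at h; exact absurd h.symm (sg_ne h2)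
  · rfl

theorem exists_sg {x : F} (h : x = 1 ∨ x = -1) : ∃ c, x = sg F c := by
  rcases h with rfl | rfl
  · exact ⟨0, sg_zero.symm⟩
  · exact ⟨1, sg_one.symm⟩

/-- every additive map to the field of order two comes from the form -/
theorem exists_om_of_hom (f : V → ZMod 2) (h : ∀ u v, f (u + v) = f u + f v) : ∃ c, ∀ v, f v = om c v := by
  have h0 : f 0 = 0 := by
    have := h 0 0
    rw [add_zero] at this
    exact left_eq_add.mp this
  let φ : V →+ ZMod 2 := { toFun := f, map_zero' := h0, map_add' := h }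
  refine ⟨fun i => Sum.elim (fun j => f (Pi.single (Sum.inr j) 1)) (fun j => f (Pi.single (Sum.inl j) 1)) i,
    fun v => ?_⟩
  have hv : v = ∑ i, v i • (Pi.single i (1 : ZMod 2) : V) := by
    funext j
    rw [Finset.sum_apply, Finset.sum_eq_single j]
    · simp
    · intro i _ hi
      simp [hi.symm]
    · simp
  have h1 : f v = ∑ i, v i * f (Pi.single i 1) := by
    show φ v = _
    conv_lhs => rw [hv]
    rw [map_sum]
    refine Finset.sum_congr rfl fun i _ => ?_
    rcases z2 (v i) with h | h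
    · rw [h, zero_smul, map_zero, zero_mul]
    · rw [h, one_smul, one_mul]; rfl
  rw [h1, om, Fintype.sum_sum_type, ← Finset.sum_add_distrib]
  refine Finset.sum_congr rfl fun i _ => ?_
  simp only [Sum.elim_inl, Sum.elim_inr]
  ring

theorem om_left_inj {c c' : V} (h : ∀ v, om c v = om c' v) : c = c' := by
  have : c + c' = 0 := eq_zero_of_om fun u => by
    rw [om_comm, om_add_left, h, z2_add_self]
  exact (add_eq_zero_iff _ _).1 this

/-! ### projective systems -/

/-- a projective system of commuting involutions -/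
structure Pr (s : V → Module.End F W) : Prop where
  sq : ∀ v, s v * s v = 1
  comm : ∀ u v, s u * s v = s v * s u
  mul : ∀ u v, ∃ c : ZMod 2, s (u + v) = sg F c • (s u * s v)

/-- an isometry is realised -/
def Mv (s : V → Module.End F W) (g : V ≃+ V) : Prop :=
  ∃ R : W ≃ₗ[F] W, ∀ v, ∃ c : ZMod 2, ∀ w, R (s v w) = sg F c • s (g v) (R w)

/-- the weights -/
def Wts (s : V → Module.End F W) : Type _ := { χ : V → F // wt s χ ≠ ⊥ }

namespace Pr

variable {s : V → Module.End F W}

theorem sq_eq (h : Pr s) {χ : V → F} (hχ : wt s χ ≠ ⊥) (v : V) : χ v = 1 ∨ χ v = -1 := by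
  obtain ⟨w, hw, hw0⟩ := (Submodule.ne_bot_iff _).1 hχ
  have h1 := mem_wt.1 hw v
  have h2 : s v (s v w) = w := by
    have := congrArg (fun g : Module.End F W => g w) (h.sq v)
    simpa using this
  rw [h1, map_smul, h1, smul_smul] at h2
  have h3 : (χ v * χ v - 1) • w = 0 := by rw [sub_smul, h2, one_smul, sub_self]
  have h4 : χ v * χ v - 1 = 0 := (smul_eq_zero.1 h3).resolve_right hw0
  have h5 : (χ v - 1) * (χ v + 1) = 0 := by rw [← h4]; ring
  rcases mul_eq_zero.1 h5 with h6 | h6
  · exact Or.inl (sub_eq_zero.1 h6)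
  · exact Or.inr (eq_neg_of_add_eq_zero_left h6)

theorem exists_sgn (h : Pr s) {χ : V → F} (hχ : wt s χ ≠ ⊥) : ∃ f : V → ZMod 2, ∀ v, χ v = sg F (f v) := by
  choose f hf using fun v => exists_sg (h.sq_eq hχ v)
  exact ⟨f, hf⟩

theorem val_mul {χ : V → F} (hχ : wt s χ ≠ ⊥) (u v : V) {c : ZMod 2}
    (hc : s (u + v) = sg F c • (s u * s v)) : χ (u + v) = sg F c * (χ u * χ v) := by
  obtain ⟨w, hw, hw0⟩ := (Submodule.ne_bot_iff _).1 hχ
  have h1 := mem_wt.1 hw
  have h2 := h1 (u + v)
  rw [hc] at h2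
  have h3 : (sg F c • (s u * s v)) w = (sg F c * (χ u * χ v)) • w := by
    rw [LinearMap.smul_apply, Module.End.mul_apply, h1 v, map_smul, h1 u, smul_smul, smul_smul, mul_assoc, mul_comm (χ v)]
  rw [h3] at h2
  have h4 : (sg F c * (χ u * χ v) - χ (u + v)) • w = 0 := by rw [sub_smul, h2, sub_self]
  exact (sub_eq_zero.1 ((smul_eq_zero.1 h4).resolve_right hw0)).symm

theorem exists_diff (h2 : (2 : F) ≠ 0) (h : Pr s) (χ χ' : Wts s) : ∃ c : V, ∀ v, χ.1 v = χ'.1 v * sg F (om c v) := by
  obtain ⟨f, hf⟩ := h.exists_sgn χ.2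
  obtain ⟨f', hf'⟩ := h.exists_sgn χ'.2
  obtain ⟨c, hc⟩ := exists_om_of_hom (fun v => f v + f' v) (fun u v => by
    obtain ⟨e, he⟩ := h.mul u v
    have h3 := val_mul χ.2 u v he
    have h4 := val_mul χ'.2 u v he
    rw [hf, hf, hf, ← sg_add, ← sg_add] at h3
    rw [hf', hf', hf', ← sg_add, ← sg_add] at h4
    rw [sg_inj h2 h3, sg_inj h2 h4]
    linear_combination z2_add_self e)
  refine ⟨c, fun v => ?_⟩
  rw [hf, hf', ← sg_add, ← hc, ← add_assoc, add_comm (f' v), add_assoc, z2_add_self, add_zero]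

/-- the difference of two weights -/
noncomputable def diff (h2 : (2 : F) ≠ 0) (h : Pr s) (χ χ' : Wts s) : V := (h.exists_diff h2 χ χ').choose

theorem diff_spec (h2 : (2 : F) ≠ 0) (h : Pr s) (χ χ' : Wts s) (v : V) :
    χ.1 v = χ'.1 v * sg F (om (h.diff h2 χ χ') v) := (h.exists_diff h2 χ χ').choose_spec v

theorem ne_zero (h : Pr s) (χ : Wts s) (v : V) : χ.1 v ≠ 0 := by
  rcases h.sq_eq χ.2 v with h1 | h1 <;> rw [h1] <;> simp

theorem diff_eq (h2 : (2 : F) ≠ 0) (h : Pr s) {χ χ' : Wts s} {c : V}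
    (hc : ∀ v, χ.1 v = χ'.1 v * sg F (om c v)) : h.diff h2 χ χ' = c := by
  refine om_left_inj fun v => sg_inj h2 ?_
  have h1 := h.diff_spec h2 χ χ' v
  rw [hc v] at h1
  exact (mul_left_cancel₀ (h.ne_zero χ' v) h1).symm

theorem diff_eq_zero (h2 : (2 : F) ≠ 0) (h : Pr s) (χ χ' : Wts s) : h.diff h2 χ χ' = 0 ↔ χ = χ' := by
  constructor
  · intro h1
    apply Subtype.ext
    funext v
    rw [h.diff_spec h2 χ χ' v, h1, om_zero_left, sg_zero, mul_one]
  · rintro rfl
    exact h.diff_eq h2 fun v => by rw [om_zero_left, sg_zero, mul_one]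

/-- an isometry moves the weights -/
theorem exists_move (h2 : (2 : F) ≠ 0) (h : Pr s) {g : V ≃+ V} (hg : Isom g) (hm : Mv s g) :
    ∃ T : Wts s → Wts s, Function.Injective T ∧ ∀ χ χ', h.diff h2 (T χ) (T χ') = g (h.diff h2 χ χ') := by
  obtain ⟨R, hR⟩ := hm
  choose e he using hR
  have key : ∀ χ : Wts s, wt s (fun v => sg F (e (g.symm v)) * χ.1 (g.symm v)) ≠ ⊥ := by
    intro χ
    obtain ⟨w, hw, hw0⟩ := (Submodule.ne_bot_iff _).1 χ.2
    rw [Submodule.ne_bot_iff]
    refine ⟨R w, ?_, (map_ne_zero_iff R R.injective).2 hw0⟩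
    rw [mem_wt]
    intro v
    have h1 := he (g.symm v) w
    rw [g.apply_symm_apply, mem_wt.1 hw (g.symm v), map_smul] at h1
    have h3 : sg F (e (g.symm v)) * sg F (e (g.symm v)) = 1 := by rw [← sg_add, z2_add_self, sg_zero]
    calc s v (R w) = (sg F (e (g.symm v)) * sg F (e (g.symm v))) • s v (R w) := by rw [h3, one_smul]
      _ = sg F (e (g.symm v)) • (sg F (e (g.symm v)) • s v (R w)) := by rw [smul_smul]
      _ = sg F (e (g.symm v)) • (χ.1 (g.symm v) • R w) := by rw [← h1]
      _ = _ := by rw [smul_smul]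
  refine ⟨fun χ => ⟨_, key χ⟩, ?_, ?_⟩
  · intro χ χ' hh
    apply Subtype.ext
    funext v
    have h1 := congrFun (congrArg Subtype.val hh) (g v)
    simp only [g.symm_apply_apply] at h1
    refine mul_left_cancel₀ ?_ h1
    rcases z2 (e v) with h3 | h3 <;> rw [h3]
    · rw [sg_zero]; exact one_ne_zero
    · rw [sg_one]; exact neg_ne_zero.2 one_ne_zero
  · intro χ χ'
    refine h.diff_eq h2 fun v => ?_
    show sg F (e (g.symm v)) * χ.1 (g.symm v) = sg F (e (g.symm v)) * χ'.1 (g.symm v) * _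
    have h1 : om (g (h.diff h2 χ χ')) v = om (h.diff h2 χ χ') (g.symm v) := by
      rw [← hg (h.diff h2 χ χ') (g.symm v), g.apply_symm_apply]
    rw [h1, h.diff_spec h2 χ χ' (g.symm v)]
    ring

theorem fin (h2 : (2 : F) ≠ 0) [FiniteDimensional F W] (h : Pr s) : Finite (Wts s) := by
  let _ := iSupIndep.fintypeNeBotOfFiniteDimensional (wt_indep h2 h.sq h.comm)
  exact (inferInstance : Finite { χ : V → F // wt s χ ≠ ⊥ })

theorem card_le (h2 : (2 : F) ≠ 0) [FiniteDimensional F W] (h : Pr s) : Nat.card (Wts s) ≤ finrank F W := by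
  let _ := iSupIndep.fintypeNeBotOfFiniteDimensional (wt_indep h2 h.sq h.comm)
  have h1 := iSupIndep.subtype_ne_bot_le_finrank (wt_indep h2 h.sq h.comm)
  rwa [← Nat.card_eq_fintype_card] at h1

/-- the number of ordered pairs of distinct weights is divisible by 63 -/
theorem dvd_card (h2 : (2 : F) ≠ 0) [FiniteDimensional F W] (h : Pr s) (hm : ∀ g : V ≃+ V, Isom g → Mv s g) :
    63 ∣ Nat.card (Wts s) * Nat.card (Wts s) - Nat.card (Wts s) := by
  classical
  have := h.fin h2
  let _ : Fintype (Wts s) := Fintype.ofFinite _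
  let r : V → ℕ := fun c => (Finset.univ.filter fun p : Wts s × Wts s => h.diff h2 p.1 p.2 = c).card
  have hr0 : r 0 = Nat.card (Wts s) := by
    rw [Nat.card_eq_fintype_card, ← Finset.card_univ]
    symm
    refine Finset.card_bij (fun χ _ => (χ, χ)) ?_ ?_ ?_
    · intro χ _
      rw [Finset.mem_filter]
      exact ⟨Finset.mem_univ _, (h.diff_eq_zero h2 χ χ).2 rfl⟩
    · intro χ _ χ' _ hh
      exact congrArg Prod.fst hh
    · rintro ⟨χ, χ'⟩ hh
      rw [Finset.mem_filter] at hh
      have := (h.diff_eq_zero h2 χ χ').1 hh.2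
      exact ⟨χ, Finset.mem_univ _, by rw [this]⟩
  have hle : ∀ c c' : V, c ≠ 0 → c' ≠ 0 → r c ≤ r c' := by
    intro c c' hc hc'
    obtain ⟨g, hg, hgc⟩ := exists_isom hc hc'
    obtain ⟨T, hT, hT'⟩ := h.exists_move h2 hg (hm g hg)
    refine Finset.card_le_card_of_injOn (fun p => (T p.1, T p.2)) ?_ ?_
    · intro p hp
      rw [Finset.mem_coe, Finset.mem_filter] at hp
      rw [Finset.mem_coe, Finset.mem_filter]
      exact ⟨Finset.mem_univ _, by rw [hT', hp.2, hgc]⟩
    · rintro ⟨a, b⟩ _ ⟨a', b'⟩ _ hh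
      exact Prod.ext (hT (congrArg Prod.fst hh)) (hT (congrArg Prod.snd hh))
  obtain ⟨c0, hc0⟩ : ∃ c : V, c ≠ 0 := ⟨Pi.single (Sum.inl 0) 1, by decide⟩
  have hr : ∀ c : V, c ≠ 0 → r c = r c0 := fun c hc => le_antisymm (hle _ _ hc hc0) (hle _ _ hc0 hc)
  have hsum : Nat.card (Wts s) * Nat.card (Wts s) = ∑ c : V, r c := by
    rw [Nat.card_eq_fintype_card, ← Fintype.card_prod, ← Finset.card_univ]
    exact Finset.card_eq_sum_card_fiberwise fun p _ => Finset.mem_univ _
  have h3 : ∑ c : V, r c = r 0 + 63 * r c0 := by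
    rw [← Finset.add_sum_erase _ _ (Finset.mem_univ (0 : V)),
      Finset.sum_congr rfl (g := fun _ => r c0) (fun c hc => hr c (Finset.ne_of_mem_erase hc)),
      Finset.sum_const, Finset.card_erase_of_mem (Finset.mem_univ _), Finset.card_univ, smul_eq_mul]
    have : Fintype.card V = 64 := by simp [V]
    rw [this]
  rw [hsum, h3, hr0, Nat.add_sub_cancel_left]
  exact dvd_mul_right _ _

/-- degree less than 28 : scalars -/
theorem scalar (h2 : (2 : F) ≠ 0) [FiniteDimensional F W] (h : Pr s) (hm : ∀ g : V ≃+ V, Isom g → Mv s g)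
    (hd : finrank F W < 28) (v : V) : s v = 1 ∨ s v = -1 := by
  have h1 := h.dvd_card h2 hm
  have h3 := h.card_le h2
  have := h.fin h2
  have h4 : Nat.card (Wts s) ≤ 1 := by
    have h5 : Nat.card (Wts s) < 28 := by omega
    generalize Nat.card (Wts s) = n at h1 h5
    by_contra hc
    interval_cases n <;> revert h1 <;> norm_num at * 
  have hsub : Subsingleton (Wts s) := (Finite.card_le_one_iff_subsingleton).1 h4
  by_cases hn : Nonempty (Wts s)
  · obtain ⟨χ⟩ := hn
    have h5 : wt s χ.1 = ⊤ := by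
      rw [← wt_top h2 h.sq h.comm]
      refine le_antisymm (le_iSup (fun χ : V → F => wt s χ) χ.1) (iSup_le fun χ' => ?_)
      by_cases hχ' : wt s χ' = ⊥
      · rw [hχ']; exact bot_le
      · rw [show χ.1 = χ' from congrArg Subtype.val (Subsingleton.elim χ ⟨χ', hχ'⟩)]
    have h6 : ∀ w, s v w = χ.1 v • w := fun w => mem_wt.1 (h5 ▸ Submodule.mem_top) v
    rcases h.sq_eq χ.2 v with h7 | h7
    · left; ext w; rw [h6, h7, one_smul]; rfl
    · right; ext w; rw [h6, h7, neg_smul, one_smul]; rfl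
  · left
    have h5 : (⊤ : Submodule F W) = ⊥ := by
      rw [← wt_top h2 h.sq h.comm, eq_bot_iff]
      refine iSup_le fun χ' => ?_
      by_contra hχ'
      exact hn ⟨⟨χ', fun h0 => hχ' (le_of_eq h0)⟩⟩
    ext w
    have h6 : ∀ w : W, w = 0 := fun w => (Submodule.mem_bot F).1 (h5 ▸ Submodule.mem_top)
    rw [h6 (s v w), h6 ((1 : Module.End F W) w)]

end Pr

/-! ### representations of the group -/

section Group

variable {K : Type*} [Group K] {th : V → K} {O K0 : Subgroup K}

theorem sg_mul_self (c : ZMod 2) : sg F c * sg F c = 1 := by rw [← sg_add, z2_add_self, sg_zero]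

/-- a representation of `K` of degree less than 63 is trivial on `A` -/
theorem lin (h : Sit th O K0) (h2 : (2 : F) ≠ 0) [FiniteDimensional F W] (ρ : K →* Module.End F W)
    (hd : finrank F W < 63) (v : V) : ρ (th v) = 1 := by
  classical
  set s : V → Module.End F W := fun v => ρ (th v) with hs
  have hsq : ∀ v, s v * s v = 1 := fun v => by rw [hs]; simp only; rw [← map_mul, h.sq, map_one]
  have hcm : ∀ u v, s u * s v = s v * s u := fun u v => by
    rw [hs]; simp only; rw [← map_mul, ← map_mul, h.comm]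
  have hP : Pr s := ⟨hsq, hcm, fun u v => ⟨0, by
    rw [sg_zero, one_smul, hs]; simp only; rw [h.add, map_mul]⟩⟩
  by_contra hne
  -- a weight different from the trivial one
  have hw : ∃ c : V, c ≠ 0 ∧ wt s (fun v => sg F (om c v)) ≠ ⊥ := by
    by_contra hc
    push Not at hc
    apply hne
    have h5 : wt s (fun _ => (1 : F)) = ⊤ := by
      rw [eq_top_iff, ← wt_top h2 hsq hcm]
      refine iSup_le fun χ => ?_
      by_cases hχ : wt s χ = ⊥
      · rw [hχ]; exact bot_le
      obtain ⟨f, hf⟩ := hP.exists_sgn hχ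
      obtain ⟨c, hc'⟩ := exists_om_of_hom f (fun u v => by
        have h3 := Pr.val_mul hχ u v (c := 0) (by rw [sg_zero, one_smul, hs]; simp only; rw [h.add, map_mul])
        rw [hf, hf, hf, ← sg_add, ← sg_add, zero_add] at h3
        exact sg_inj h2 h3)
      have h6 : χ = fun v => sg F (om c v) := funext fun v => by rw [hf, hc']
      by_cases hc0 : c = 0
      · rw [h6, hc0]
        refine le_of_eq (congrArg _ (funext fun v => ?_))
        rw [om_zero_left, sg_zero]
      · rw [h6, hc c hc0]; exact bot_le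
    ext w
    have h6 := mem_wt.1 (h5 ▸ Submodule.mem_top : w ∈ wt s fun _ => (1 : F)) v
    rw [one_smul] at h6
    exact h6
  obtain ⟨c, hc0, hc⟩ := hw
  have hall : ∀ c' : V, c' ≠ 0 → wt s (fun v => sg F (om c' v)) ≠ ⊥ := by
    intro c' hc'
    obtain ⟨g, hg, rfl⟩ := exists_isom hc0 hc'
    obtain ⟨k, -, hk⟩ := h.full g hg
    obtain ⟨w, hw, hw0⟩ := (Submodule.ne_bot_iff _).1 hc
    have hk1 : ∀ x : W, ρ k⁻¹ (ρ k x) = x := fun x => by
      rw [← Module.End.mul_apply, ← map_mul, inv_mul_cancel, map_one, Module.End.one_apply]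
    rw [Submodule.ne_bot_iff]
    refine ⟨ρ k w, ?_, fun h0 => hw0 (by rw [← hk1 w, h0, map_zero])⟩
    rw [mem_wt]
    intro v
    have h1 := hk (g.symm v)
    rw [g.apply_symm_apply] at h1
    show ρ (th v) (ρ k w) = _
    rw [← h1, ← Module.End.mul_apply, ← map_mul, mul_assoc, mul_assoc, inv_mul_cancel, mul_one, map_mul,
      Module.End.mul_apply]
    have h3 : ρ (th (g.symm v)) w = _ := mem_wt.1 hw (g.symm v)
    rw [h3, map_smul]
    have h4 : om (g c) v = om c (g.symm v) := by
      rw [← hg c (g.symm v), g.apply_symm_apply]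
    rw [h4]
  have := hP.fin h2
  let f : { c : V // c ≠ 0 } → Wts s := fun c => ⟨_, hall c.1 c.2⟩
  have hf : Function.Injective f := by
    intro c c' hh
    apply Subtype.ext
    refine om_left_inj fun v => sg_inj h2 ?_
    exact congrFun (congrArg Subtype.val hh) v
  have h7 := Nat.card_le_card_of_injective f hf
  have h8 : Nat.card { c : V // c ≠ 0 } = 63 := by
    rw [Nat.card_eq_fintype_card, Fintype.card_subtype_compl, Fintype.card_subtype_eq]
    have : Fintype.card V = 64 := by simp [V]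
    rw [this]
  have h9 := hP.card_le h2
  omega

/-- projective representations of `K` of degree less than 28 -/
theorem proj (h : Sit th O K0) {Kt : Type*} [Group Kt] (π : Kt →* K) (hπ : Function.Surjective π)
    (h2 : (2 : F) ≠ 0) [FiniteDimensional F W] (ρ : Kt →* Module.End F W)
    (hker : ∀ x, π x = 1 → ρ x = 1 ∨ ρ x = -1) (hd : finrank F W < 28) {x : Kt} {v : V} (hx : π x = th v) :
    ρ x = 1 ∨ ρ x = -1 := by
  classical
  rcases subsingleton_or_nontrivial W with hW | hW
  · left; ext w; exact Subsingleton.elim _ _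
  have hker' : ∀ x y, π x = π y → ∃ c, ρ x = sg F c • ρ y := by
    intro x y hxy
    have h1 : π (x * y⁻¹) = 1 := by rw [map_mul, map_inv, hxy, mul_inv_cancel]
    have h3 : ρ x = ρ (x * y⁻¹) * ρ y := by rw [← map_mul, inv_mul_cancel_right]
    rcases hker _ h1 with h4 | h4
    · exact ⟨0, by rw [h3, h4, one_mul, sg_zero, one_smul]⟩
    · exact ⟨1, by rw [h3, h4, neg_mul, one_mul, sg_one, neg_smul, one_smul]⟩
  have hsc : ∀ {a b : ZMod 2} {f : Module.End F W}, (∃ f', f' * f = 1) → sg F a • f = sg F b • f → a = b := by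
    rintro a b f ⟨f', hf'⟩ hab
    have h1 := congrArg (fun x => f' * x) hab
    simp only [mul_smul_comm, hf'] at h1
    obtain ⟨w, hw⟩ := exists_ne (0 : W)
    have h3 := congrArg (fun x : Module.End F W => x w) h1
    simp only [LinearMap.smul_apply, Module.End.one_apply] at h3
    exact sg_inj h2 (smul_left_injective F hw h3)
  choose t ht using fun v => hπ (th v)
  have hinv : ∀ y : Kt, ∃ f', f' * ρ y = 1 := fun y => ⟨ρ y⁻¹, by rw [← map_mul, inv_mul_cancel, map_one]⟩
  set s : V → Module.End F W := fun v => ρ (t v) with hs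
  have hsd : ∀ v, s v = ρ (t v) := fun v => rfl
  -- the squares
  have hq : ∀ v, ∃ c, s v * s v = sg F c • 1 := by
    intro v
    obtain ⟨c, hc⟩ := hker' (t v * t v) 1 (by rw [map_mul, ht, h.sq, map_one])
    exact ⟨c, by rw [hsd, ← map_mul, hc, map_one]⟩
  choose q hq using hq
  have hbb : ∀ u v, ∃ c, s v * s u = sg F c • (s u * s v) := by
    intro u v
    obtain ⟨c, hc⟩ := hker' (t v * t u) (t u * t v) (by rw [map_mul, map_mul, ht, ht, h.comm])
    exact ⟨c, by rw [hsd, hsd, ← map_mul, ← map_mul, hc]⟩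
  choose β hβ using hbb
  have haa : ∀ u v, ∃ c, s (u + v) = sg F c • (s u * s v) := by
    intro u v
    obtain ⟨c, hc⟩ := hker' (t (u + v)) (t u * t v) (by rw [map_mul, ht, ht, ht, h.add])
    exact ⟨c, by rw [hsd, hsd, hsd, ← map_mul, hc]⟩
  have h0 : ∃ c, s 0 = sg F c • 1 := by
    obtain ⟨c, hc⟩ := hker' (t 0) 1 (by rw [ht, h.zero, map_one])
    exact ⟨c, by rw [hsd, hc, map_one]⟩
  obtain ⟨c0, hc0⟩ := h0
  have hq0 : q 0 = 0 := by
    refine hsc (f := 1) ⟨1, one_mul 1⟩ ?_
    rw [← hq 0, hc0, smul_mul_smul_comm, one_mul, sg_mul_self, sg_zero]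
  -- moving
  have hmv : ∀ k : Kt, ∀ u v : V, π k * th u * (π k)⁻¹ = th v → ∃ c, ρ k * s u = sg F c • (s v * ρ k) := by
    intro k u v hk
    obtain ⟨c, hc⟩ := hker' (k * t u) (t v * k) (by
      rw [map_mul, map_mul, ht, ht, ← hk, inv_mul_cancel_right])
    exact ⟨c, by rw [hsd, hsd, ← map_mul, ← map_mul, hc]⟩
  have hqc : ∀ u v : V, u ≠ 0 → v ≠ 0 → q u = q v := by
    intro u v hu hv
    obtain ⟨k, -, hk⟩ := h.exists_conj hu hv
    obtain ⟨kt, rfl⟩ := hπ k
    obtain ⟨c, hc⟩ := hmv kt u v hk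
    refine hsc (hinv kt) ?_
    have e1 : sg F (q u) • ρ kt = ρ kt * (s u * s u) := by rw [hq, mul_smul_comm, mul_one]
    have e2 : sg F (q v) • ρ kt = s v * s v * ρ kt := by rw [hq, smul_mul_assoc, one_mul]
    rw [e1, e2, ← mul_assoc, hc, smul_mul_assoc, mul_assoc, hc, mul_smul_comm, smul_smul, sg_mul_self, one_smul,
      mul_assoc]
  have hβq : ∀ u v : V, q (u + v) = β u v + q u + q v := by
    intro u v
    obtain ⟨c, hc⟩ := haa u v
    refine hsc (f := 1) ⟨1, one_mul 1⟩ ?_
    rw [← hq (u + v), hc, smul_mul_smul_comm, sg_mul_self, one_smul, mul_assoc, ← mul_assoc (s v), hβ u v,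
      smul_mul_assoc, mul_smul_comm, mul_assoc (s u) (s v) (s v), hq v, mul_smul_comm, mul_one, mul_smul_comm, hq u,
      smul_smul, smul_smul, ← sg_add, ← sg_add]
    congr 2
    ring
  have hβadd : ∀ u v v', β u (v + v') = β u v + β u v' := by
    intro u v v'
    obtain ⟨c, hc⟩ := haa v v'
    have e1 : s (v + v') * s u = sg F (β u v + β u v') • (s u * s (v + v')) := by
      rw [hc, smul_mul_assoc, mul_assoc, hβ u v', mul_smul_comm, ← mul_assoc, hβ u v, smul_mul_assoc,
        mul_smul_comm, smul_smul, smul_smul, smul_smul, sg_add, mul_assoc]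
      congr 1
      ring
    rw [hβ u (v + v')] at e1
    refine hsc (f := s u * s (v + v')) ?_ e1
    rw [hsd, hsd, ← map_mul]
    exact hinv _
  have hqz : ∀ v, q v = 0 := by
    intro v
    by_cases hv : v = 0
    · rw [hv]; exact hq0
    rcases z2 (q v) with h1 | h1
    · exact h1
    exfalso
    have hall : ∀ u : V, u ≠ 0 → q u = 1 := fun u hu => (hqc u v hu hv).trans h1
    have hb : ∀ u v : V, u ≠ 0 → v ≠ 0 → u ≠ v → β u v = 1 := by
      intro u v hu hv huv
      have := hβq u v
      rw [hall _ hu, hall _ hv, hall _ (fun hh => huv ((add_eq_zero_iff _ _).1 hh))] at this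
      rcases z2 (β u v) with h3 | h3
      · rw [h3] at this; exact absurd this (by decide)
      · exact h3
    have := hβadd (Pi.single (Sum.inl 0) 1) (Pi.single (Sum.inl 1) 1) (Pi.single (Sum.inl 2) 1)
    rw [hb _ _ (by decide) (by decide) (by decide), hb _ _ (by decide) (by decide) (by decide),
      hb _ _ (by decide) (by decide) (by decide)] at this
    exact absurd this (by decide)
  have hβz : ∀ u v, β u v = 0 := by
    intro u v
    have := hβq u v
    rw [hqz, hqz, hqz, add_zero, add_zero] at this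
    exact this.symm
  have hP : Pr s := by
    refine ⟨fun v => ?_, fun u v => ?_, haa⟩
    · rw [hq, hqz, sg_zero, one_smul]
    · rw [hβ v u, hβz, sg_zero, one_smul]
  have hM : ∀ g : V ≃+ V, Isom g → Mv s g := by
    intro g hg
    obtain ⟨k, -, hk⟩ := h.full g hg
    obtain ⟨kt, rfl⟩ := hπ k
    refine ⟨LinearEquiv.ofLinearMap (ρ kt) (ρ kt⁻¹) ?_ ?_, fun v => ?_⟩
    · rw [← Module.End.mul_eq_comp, ← map_mul, mul_inv_cancel, map_one]; rfl
    · rw [← Module.End.mul_eq_comp, ← map_mul, inv_mul_cancel, map_one]; rfl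
    · obtain ⟨c, hc⟩ := hmv kt v (g v) (hk v)
      refine ⟨c, fun w => ?_⟩
      exact congrArg (fun f : Module.End F W => f w) hc
  have h3 := hP.scalar h2 hM hd v
  obtain ⟨c, hc⟩ := hker' x (t v) (by rw [hx, ht])
  have h4 : ρ x = sg F c • s v := hc
  rcases z2 c with rfl | rfl
  · rw [h4, sg_zero, one_smul]; exact h3
  · rw [h4, sg_one, neg_smul, one_smul]
    rcases h3 with h3 | h3
    · right; rw [h3]
    · left; rw [h3, neg_neg]

end Group

end Cfsg.Agent.H265.SpSix
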