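import Cfsg.Agent.H265.SpSix.Congr
import Cfsg.Agent.H265.SpSix.AltNine
import Cfsg.Agent.H336.SpSix.Basic
import Cfsg.Agent.MonsterX.ThOneClass

/-!
# The row `Th`

`C_K(z) = 2^(1+8).A₉`: the normaliser of `A` contains a Sylow 2-subgroup of `C_K(z)`, so `Q = O₂(C_K(z))` normalises
`A`; then `A ∩ Q = z^⊥` and `A` gives an involution of `A₉` whose centraliser has order divisible by 320.
-/

set_option autoImplicit false

namespace Cfsg.Agent.H265.SpSix

open Cfsg Cfsg.Agent.H336.SpSix Subgroup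
open scoped commutatorElement

variable {K : Type*} [Group K] {th : V → K} {O K0 : Subgroup K}

theorem card_ne_zero : Nat.card { v : V // v ≠ 0 } = 63 := by
  rw [Nat.card_eq_fintype_card, Fintype.card_subtype_compl, Fintype.card_subtype_eq]
  have : Fintype.card V = 64 := by simp [V]
  rw [this]

/-- the centraliser of `th a` in the normaliser of `A` -/
theorem dvd_card_inf [Finite K] (h : Sit th O K0) {a : V} (ha : a ≠ 0) :
    1474560 ∣ Nat.card (normalizer (h.A : Set K) ⊓ centralizer {th a} : Subgroup K) := by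
  set N := normalizer (h.A : Set K) with hN
  let act : MulAction N K :=
    { smul := fun n x => n.1 * x * n.1⁻¹
      one_smul := fun x => by show (1 : K) * x * 1⁻¹ = x; group
      mul_smul := fun m n x => by
        show (m.1 * n.1) * x * (m.1 * n.1)⁻¹ = m.1 * (n.1 * x * n.1⁻¹) * m.1⁻¹; group }
  have hs : ∀ (n : N) (x : K), n • x = n.1 * x * n.1⁻¹ := fun _ _ => rfl
  have horb : MulAction.orbit N (th a) = th '' {v | v ≠ 0} := by
    ext x
    constructor
    · rintro ⟨n, rfl⟩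
      obtain ⟨u, hu⟩ := h.mem_normalizer.1 n.2 a
      refine ⟨u, ?_, hu.symm⟩
      rintro rfl
      have hu' : n.1 * th a * n.1⁻¹ = 1 := by rw [hu, h.zero]
      have : th a = 1 := by
        rw [mul_inv_eq_one] at hu'
        exact mul_left_cancel (hu'.trans (mul_one _).symm)
      exact ha ((h.eq_one_iff a).1 this)
    · rintro ⟨v, hv, rfl⟩
      obtain ⟨k, hk, hk'⟩ := h.exists_conj ha hv
      exact ⟨⟨k, h.K0_le hk⟩, hk'⟩
  have h2 : Nat.card (MulAction.orbit N (th a)) = 63 := by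
    rw [horb, Nat.card_coe_set_eq, Set.ncard_image_of_injective _ h.inj, ← Nat.card_coe_set_eq]
    exact card_ne_zero
  have h3 : Nat.card (MulAction.stabilizer N (th a)) = Nat.card (N ⊓ centralizer {th a} : Subgroup K) := by
    refine Nat.card_congr ⟨fun n => ⟨n.1.1, n.1.2, ?_⟩, fun n => ⟨⟨n.1, n.2.1⟩, ?_⟩, fun _ => rfl, fun _ => rfl⟩
    · refine mem_centralizer_singleton_iff.2 ?_
      have h4 : n.1.1 * th a * n.1.1⁻¹ = th a := n.2
      exact (eq_mul_inv_iff_mul_eq.1 h4.symm).symm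
    · rw [MulAction.mem_stabilizer_iff, hs, mem_centralizer_singleton_iff.1 n.2.2, mul_inv_cancel_right]
  have h5 : Nat.card (MulAction.orbit N (th a)) * Nat.card (MulAction.stabilizer N (th a)) = Nat.card N := by
    have := Nat.card_congr (MulAction.orbitProdStabilizerEquivGroup N (th a))
    rwa [Nat.card_prod] at this
  rw [h2, h3] at h5
  have h6 := h.card_dvd_normalizer
  rw [← hN, ← h5] at h6
  exact Nat.dvd_of_mul_dvd_mul_left (k := 63) (by norm_num) (by
    rw [show 63 * 1474560 = 1451520 * 64 from by norm_num]; exact h6)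

/-- a 2-subgroup moving the elements of `A` only by `th a` has order at most 128 -/
theorem card_le_of_small [Finite K] (h : Sit th O K0) {a : V} (ha : a ≠ 0) {Q : Subgroup K} (hQ : IsPGroup 2 Q)
    (hm : ∀ x ∈ Q, ∀ v, x * th v * x⁻¹ = th v ∨ x * th v * x⁻¹ = th (v + a)) : Nat.card Q ≤ 128 := by
  have hnor : ∀ x ∈ Q, x ∈ normalizer (h.A : Set K) := fun x hx => h.mem_normalizer.2 fun v => by
    rcases hm x hx v with h1 | h1
    · exact ⟨_, h1⟩
    · exact ⟨_, h1⟩
  have hac : ∀ x ∈ Q, x * th a * x⁻¹ = th a := fun x hx => by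
    rcases hm x hx a with h1 | h1
    · exact h1
    · exfalso
      rw [v_add_self, h.zero, mul_inv_eq_one] at h1
      exact ha ((h.eq_one_iff a).1 (mul_left_cancel (h1.trans (mul_one _).symm)))
  have hperp : ∀ x ∈ Q, ∀ v, om a v = 0 → x * th v = th v * x := by
    intro x hx v hv
    rcases hm x hx v with h1 | h1
    · nth_rewrite 2 [← h1]; rw [inv_mul_cancel_right]
    exfalso
    obtain ⟨g, hg, hg'⟩ := h.exists_isom_of_mem (hnor x hx)
    have hga : g v = v + a := h.inj (by rw [← hg', h1])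
    obtain ⟨u, hu⟩ := exists_om ha
    have hgu : g u = u ∨ g u = u + a := by
      rcases hm x hx u with h3 | h3
      · left; exact h.inj (by rw [← hg', h3])
      · right; exact h.inj (by rw [← hg', h3])
    have h4 := hg v u
    rw [hga] at h4
    rcases hgu with h5 | h5
    · rw [h5, om_add_left, hu] at h4
      have : om v u + 1 = om v u := h4
      exact absurd (add_eq_left.mp this) (by decide)
    · rw [h5, om_add_left, om_add_right, om_add_right, hu, om_self, om_comm v a, hv] at h4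
      have : om v u + 0 + (1 + 0) = om v u := h4
      rw [add_zero, add_zero] at this
      exact absurd (add_eq_left.mp this) (by decide)
  have hcase := fun x (hx : x ∈ Q) => h.act_of_perp ha (hnor x hx) (hperp x hx)
  -- the kernel
  have hker : ∀ x ∈ Q, (∀ v, x * th v * x⁻¹ = th v) → x ∈ h.A := fun x hx hc =>
    h.mem_of_pgroup hQ hx fun v => by nth_rewrite 2 [← hc v]; rw [inv_mul_cancel_right]
  by_cases hall : ∀ x ∈ Q, ∀ v, x * th v * x⁻¹ = th v
  · have h1 : Q ≤ h.A := fun x hx => hker x hx (hall x hx)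
    have h2 := Nat.le_of_dvd Nat.card_pos (Subgroup.card_dvd_of_le h1)
    rw [h.card_A] at h2
    omega
  · push Not at hall
    obtain ⟨x0, hx0, v0, hv0⟩ := hall
    have h0 : ∀ v, x0 * th v * x0⁻¹ = th (tv a v) := (hcase x0 hx0).resolve_left fun hh => hv0 (hh v0)
    classical
    let f : Q → h.A × ZMod 2 := fun x => if hx : ∀ v, x.1 * th v * x.1⁻¹ = th v then (⟨x.1, hker x.1 x.2 hx⟩, 0)
      else (⟨x0⁻¹ * x.1, by
        refine hker _ (Q.mul_mem (Q.inv_mem hx0) x.2) fun v => ?_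
        have h1 := (hcase x.1 x.2).resolve_left hx v
        have h2 := h0 v
        have h3 : x0⁻¹ * x.1 * th v * (x0⁻¹ * x.1)⁻¹ = x0⁻¹ * (x.1 * th v * x.1⁻¹) * x0 := by group
        rw [h3, h1, ← h2]
        group⟩, 1)
    have hf : Function.Injective f := by
      intro x y hxy
      by_cases hx : ∀ v, x.1 * th v * x.1⁻¹ = th v <;> by_cases hy : ∀ v, y.1 * th v * y.1⁻¹ = th v
      · simp only [f, dif_pos hx, dif_pos hy] at hxy
        exact Subtype.ext (congrArg (fun p => p.1.1) hxy)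
      · simp only [f, dif_pos hx, dif_neg hy] at hxy
        exact absurd (congrArg Prod.snd hxy : (0 : ZMod 2) = 1) zero_ne_one
      · simp only [f, dif_neg hx, dif_pos hy] at hxy
        exact absurd (congrArg Prod.snd hxy : (1 : ZMod 2) = 0) one_ne_zero
      · simp only [f, dif_neg hx, dif_neg hy] at hxy
        exact Subtype.ext (mul_left_cancel (congrArg (fun p => p.1.1) hxy))
    have h1 := Nat.card_le_card_of_injective f hf
    rw [Nat.card_prod, h.card_A, Nat.card_zmod] at h1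
    omega

/-- the abstract situation of the Thompson group -/
theorem no_nine [Finite K] (h : Sit th O K0) {a : V} (ha : a ≠ 0) {C : Subgroup K}
    (hC : ∀ x, x ∈ C ↔ x * th a = th a * x) (hcard : Nat.card C = 92897280) {Q : Subgroup C} [Q.Normal]
    (hQ9 : Nat.card Q = 2 ^ 9) (hQ : IsExtraspecial 2 Q) (hQc : centralizer (Q : Set C) ≤ Q)
    (e : C ⧸ Q ≃* alternatingGroup (Fin 9)) : False := by
  classical
  have : Fact (Nat.Prime 2) := ⟨Nat.prime_two⟩
  have haC : th a ∈ C := (hC _).2 rfl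
  have hAC : ∀ v, th v ∈ C := fun v => (hC _).2 (h.comm v a)
  -- `Q` in the group
  obtain ⟨Q', hQ'⟩ : ∃ Q', Q' = Q.map C.subtype := ⟨_, rfl⟩
  have memQ' : ∀ x : C, (x : K) ∈ Q' ↔ x ∈ Q := fun x => by
    rw [hQ']
    constructor
    · rintro ⟨y, hy, hxy⟩
      rwa [← Subtype.ext hxy]
    · intro hx
      exact ⟨x, hx, rfl⟩
  have hQ'C : Q' ≤ C := by
    rw [hQ']
    rintro _ ⟨y, _, rfl⟩
    exact y.2
  have hQ'card : Nat.card Q' = 2 ^ 9 := by
    rw [← hQ9, hQ']
    exact Nat.card_congr (Q.equivMapOfInjective C.subtype C.subtype_injective).toEquiv.symm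
  have hQ'p : IsPGroup 2 Q' := IsPGroup.of_card hQ'card
  have hQ'n : ∀ c ∈ C, ∀ x ∈ Q', c * x * c⁻¹ ∈ Q' := by
    intro c hc x hx
    have h1 := Normal.conj_mem (inferInstance : Q.Normal) ⟨x, hQ'C hx⟩ ((memQ' _).1 hx) ⟨c, hc⟩
    exact (memQ' _).2 h1
  -- the centre
  have hzQ : (⟨th a, haC⟩ : C) ∈ Q := hQc (mem_centralizer_iff.2 fun x _ => by
    apply Subtype.ext
    exact (hC _).1 x.2)
  have hZ : ∀ x : Q, x ∈ center Q → ((x : C) : K) = 1 ∨ ((x : C) : K) = th a := by
    intro x hx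
    have h2 : Nat.card (center Q) = 2 := hQ.2
    have hz : (⟨⟨th a, haC⟩, hzQ⟩ : Q) ∈ center Q := by
      rw [mem_center_iff]
      intro y
      apply Subtype.ext
      apply Subtype.ext
      exact (hC _).1 y.1.2
    by_contra hc
    push Not at hc
    have hz1 : (⟨⟨th a, haC⟩, hzQ⟩ : Q) ≠ 1 := fun h0 =>
      ha ((h.eq_one_iff a).1 (congrArg (fun t : Q => ((t : C) : K)) h0))
    have hx1 : x ≠ 1 := fun h0 => hc.1 (congrArg (fun t : Q => ((t : C) : K)) h0)
    have hxz : x ≠ ⟨⟨th a, haC⟩, hzQ⟩ := fun h0 => hc.2 (congrArg (fun t : Q => ((t : C) : K)) h0)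
    have h3 : ({1, ⟨⟨th a, haC⟩, hzQ⟩, x} : Finset Q).card = 3 :=
      Finset.card_eq_three.2 ⟨_, _, _, hz1.symm, hx1.symm, hxz.symm, rfl⟩
    have h4 : ((({1, ⟨⟨th a, haC⟩, hzQ⟩, x} : Finset Q)) : Set Q).ncard ≤ ((center Q : Subgroup Q) : Set Q).ncard := by
      refine Set.ncard_le_ncard ?_ (Set.toFinite _)
      intro y hy
      simp only [Finset.coe_insert, Finset.coe_singleton, Set.mem_insert_iff, Set.mem_singleton_iff] at hy
      rcases hy with rfl | rfl | rfl
      · exact one_mem _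
      · exact hz
      · exact hx
    have h5 : ((center Q : Subgroup Q) : Set Q).ncard = 2 := by rw [← Nat.card_coe_set_eq]; exact h2
    rw [Set.ncard_coe_finset, h3, h5] at h4
    omega
  have hcomm : ∀ x ∈ Q', ∀ y ∈ Q', x * y * x⁻¹ = y ∨ x * y * x⁻¹ = th a * y := by
    intro x hx y hy
    have h1 : (⁅(⟨⟨x, hQ'C hx⟩, (memQ' _).1 hx⟩ : Q), (⟨⟨y, hQ'C hy⟩, (memQ' _).1 hy⟩ : Q)⁆ : Q) ∈ center Q := by
      rw [← hQ.1.2.2]
      exact commutator_mem_commutator (mem_top _) (mem_top _)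
    have h2 : x * y * x⁻¹ * y⁻¹ = 1 ∨ x * y * x⁻¹ * y⁻¹ = th a := hZ _ h1
    rcases h2 with h2 | h2
    · left; exact mul_inv_eq_one.1 h2
    · right; exact mul_inv_eq_iff_eq_mul.1 h2
  -- the normaliser of `A` in `C` has odd index
  obtain ⟨M, hM⟩ : ∃ M, M = normalizer (h.A : Set K) ⊓ centralizer {th a} := ⟨_, rfl⟩
  have hMC : M ≤ C := by
    rw [hM]
    intro x hx
    exact (hC x).2 (mem_centralizer_singleton_iff.1 hx.2)
  have hMd : 1474560 ∣ Nat.card M := by rw [hM]; exact dvd_card_inf h ha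
  obtain ⟨MC, hMC'⟩ : ∃ MC, MC = M.subgroupOf C := ⟨_, rfl⟩
  have hMCcard : Nat.card MC = Nat.card M := by
    rw [hMC']
    exact Nat.card_congr (subgroupOfEquivOfLe hMC).toEquiv
  have hidx : MC.index ∣ 63 := by
    obtain ⟨k, hk⟩ := hMd
    have h1 := MC.card_mul_index
    rw [hMCcard, hk, hcard] at h1
    refine ⟨k, ?_⟩
    have h2 : 1474560 * (MC.index * k) = 1474560 * 63 := by rw [← mul_assoc, mul_comm 1474560 MC.index,
      mul_assoc MC.index, mul_comm MC.index, h1]
    exact (Nat.eq_of_mul_eq_mul_left (by norm_num) h2).symm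
  have hodd : ¬ 2 ∣ MC.index := fun h2 => absurd (h2.trans hidx) (by decide)
  have hQM : Q ≤ MC := le_of_odd_index Nat.prime_two hQ9 hodd
  have hQ'N : ∀ x ∈ Q', ∀ v, ∃ u, x * th v * x⁻¹ = th u := by
    intro x hx
    have h1 := hQM ((memQ' ⟨x, hQ'C hx⟩).1 hx)
    rw [hMC', mem_subgroupOf, hM] at h1
    exact h.mem_normalizer.1 h1.1
  -- the elements of `Q` move `A` inside `A ∩ Q`
  have hmove : ∀ x ∈ Q', ∀ v u, x * th v * x⁻¹ = th u → th (v + u) ∈ Q' := by
    intro x hx v u hu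
    have h1 : th (v + u) = x⁻¹⁻¹ * (th v * x⁻¹ * (th v)⁻¹) := by
      rw [inv_inv, ← mul_assoc, ← mul_assoc, hu, h.inv, ← h.add, add_comm]
    rw [h1, inv_inv]
    exact Q'.mul_mem hx (hQ'n _ (hAC v) _ (Q'.inv_mem hx))
  have hsmall : ¬ ∀ x ∈ Q', ∀ v, x * th v * x⁻¹ = th v ∨ x * th v * x⁻¹ = th (v + a) := by
    intro hh
    have := card_le_of_small h ha hQ'p hh
    rw [hQ'card] at this
    norm_num at this
  rcases h.inter_cases ha Q' (fun k _ hk x hx => hQ'n k ((hC k).2 hk) x hx) with h0 | h0 | h0 | h0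
  · exact ha ((h0 a).1 ((memQ' ⟨th a, haC⟩).2 hzQ))
  · apply hsmall
    intro x hx v
    obtain ⟨u, hu⟩ := hQ'N x hx v
    rcases (h0 _).1 (hmove x hx v u hu) with h1 | h1
    · left; rw [hu, (add_eq_zero_iff _ _).1 h1]
    · right
      rw [hu, ← h1, ← add_assoc, v_add_self, zero_add]
  · -- the main case
    obtain ⟨b, hb⟩ := exists_om ha
    obtain ⟨φ, hφ, hφk⟩ : ∃ φ : C →* alternatingGroup (Fin 9), Function.Surjective φ ∧ ∀ x, φ x = 1 ↔ x ∈ Q :=
      ⟨(e : C ⧸ Q →* alternatingGroup (Fin 9)).comp (QuotientGroup.mk' Q),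
        e.surjective.comp (QuotientGroup.mk'_surjective Q), fun x => by
          rw [← QuotientGroup.eq_one_iff (N := Q) x]
          exact e.map_eq_one_iff⟩
    obtain ⟨bb, hbb⟩ : ∃ bb, bb = φ ⟨th b, hAC b⟩ := ⟨_, rfl⟩
    have hb1 : bb ≠ 1 := by
      rw [hbb, Ne, hφk, ← memQ']
      intro hh
      have := (h0 b).1 hh
      rw [hb] at this
      exact absurd this (by decide)
    have hb2 : bb * bb = 1 := by
      rw [hbb, ← map_mul]
      have : (⟨th b, hAC b⟩ * ⟨th b, hAC b⟩ : C) = 1 := Subtype.ext (h.sq b)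
      rw [this, map_one]
    refine alt9 bb hb2 hb1 ?_
    have hle : MC.map φ ≤ centralizer ({bb} : Set (alternatingGroup (Fin 9))) := by
      rintro _ ⟨x, hx, rfl⟩
      rw [mem_centralizer_singleton_iff, hbb, ← map_mul, ← map_mul]
      have hx' : (x : K) ∈ M := by
        have : x ∈ MC := hx
        rwa [hMC', mem_subgroupOf] at this
      rw [hM] at hx'
      obtain ⟨g, hg, hg'⟩ := h.exists_isom_of_mem hx'.1
      have hga : g a = a := h.inj (by
        rw [← hg', mem_centralizer_singleton_iff.1 hx'.2, mul_inv_cancel_right])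
      have h2 : om a (g b + b) = 0 := by
        rw [om_add_right, hb]
        nth_rewrite 1 [← hga]
        rw [hg, hb]; exact z2_add_self 1
      have h3 : φ (⟨th (g b + b), hAC _⟩) = 1 := by
        rw [hφk, ← memQ']
        exact (h0 _).2 h2
      have h4 : x * ⟨th b, hAC b⟩ = ⟨th (g b + b), hAC _⟩ * (⟨th b, hAC b⟩ * x) := by
        apply Subtype.ext
        show (x : K) * th b = th (g b + b) * (th b * x)
        rw [← mul_assoc, ← h.add, add_add_self, ← hg', inv_mul_cancel_right]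
      rw [h4, map_mul, h3, one_mul]
    refine dvd_trans ?_ (card_dvd_of_le hle)
    -- the order of the image
    have h5 : Nat.card (MC.map φ) * Nat.card Q = Nat.card MC := by
      let ψ : MC →* MC.map φ := φ.subgroupMap MC
      have hψ : Function.Surjective ψ := φ.subgroupMap_surjective MC
      have h6 : Nat.card ψ.ker = Nat.card Q := by
        refine Nat.card_congr ⟨fun x => ⟨x.1.1, ?_⟩, fun x => ⟨⟨x.1, hQM x.2⟩, ?_⟩, fun _ => rfl, fun _ => rfl⟩
        · exact (hφk _).1 (congrArg Subtype.val x.2)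
        · exact Subtype.ext ((hφk _).2 x.2)
      rw [← h6, ← Nat.card_congr (QuotientGroup.quotientKerEquivOfSurjective ψ hψ).toEquiv,
        ← card_eq_card_quotient_mul_card_subgroup]
    rw [hMCcard, hQ9] at h5
    obtain ⟨k, hk⟩ := hMd
    rw [hk] at h5
    refine ⟨9 * k, ?_⟩
    have h7 : 2 ^ 9 * Nat.card (MC.map φ) = 2 ^ 9 * (320 * (9 * k)) := by
      rw [mul_comm, h5]; ring
    exact Nat.eq_of_mul_eq_mul_left (by norm_num) h7
  · apply hsmall
    intro x hx v
    rcases hcomm x hx (th v) (h0 v) with h1 | h1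
    · left; exact h1
    · right; rw [h1, ← h.add, add_comm]

theorem thompson (hK : Spor.IsoTh K) (h : Sit th O K0) : False := by
  obtain ⟨e⟩ := hK
  have hf : Finite Spor.Th := Cfsg.Agent.Th.Main1700.final.1
  have h1 := congr h e
  obtain ⟨a, ha⟩ : ∃ v : V, v ≠ 0 := ⟨Pi.single (Sum.inl 0) 1, by decide⟩
  have ho : orderOf (e (th a)) = 2 := by
    refine orderOf_eq_prime ?_ fun h0 => ha ((h1.eq_one_iff a).1 h0)
    rw [pow_two]; exact h1.sq a
  obtain ⟨c, hc⟩ := isConj_iff.1 (Cfsg.Agent.MonsterX.ThOneClass.oneClass _ _ ho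
    Cfsg.Agent.MonsterX.ThOneClass.orderOf_a)
  have h2 := congr h1 (MulAut.conj c)
  obtain ⟨Q, hn, h3, h4, h5, ⟨e'⟩⟩ := Cfsg.Agent.MonsterX.ThOneClass.struct
  refine no_nine h2 ha (fun x => ?_) Cfsg.Agent.MonsterX.ThOneClass.card_a h3 h4 h5 e'
  rw [mem_centralizer_singleton_iff]
  have : (MulAut.conj c) (e (th a)) = Cfsg.Agent.Th.IndexUpper.gTh 1 := hc
  rw [this]

end Cfsg.Agent.H265.SpSix
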