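import Cfsg.Agent.H265.SpSix.Conway
import Cfsg.Agent.H265.SpSix.Fischer
import Cfsg.Agent.H265.SpSix.Thompson
import Cfsg.Agent.NotCT.Orders

/-!
# The sporadic rows except `Fi₂₂`, `Fi₂₄'`, `B`, `M`
-/

set_option autoImplicit false

namespace Cfsg.Agent.H265.SpSix

open Cfsg Cfsg.Agent.H336.SpSix

variable {K : Type*} [Group K] {th : V → K} {O K0 : Subgroup K}

theorem no_card (h : Sit th O K0) {n : ℕ} (hn : Nat.card K = n) (hd : ¬ 92897280 ∣ n) : False := by
  have := h.card_dvd
  rw [hn] at this
  exact hd this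

/-- the sporadic groups containing the configuration -/
theorem row_sporA (hK : IsSporadicGroup K) (h : Sit th O K0) :
    Spor.IsoFi22 K ∨ Spor.IsoFi24' K ∨ Spor.IsoB K ∨ Spor.IsoM K := by
  rcases hK with hK | hK | hK | hK | hK | hK | hK | hK | hK | hK | hK | hK | hK | hK | hK | hK | hK | hK | hK | hK |
    hK | hK | hK | hK | hK | hK
  · exact (no_card h (NotCT.Orders.m11 hK) (by norm_num)).elim
  · exact (no_card h (NotCT.Orders.m12 hK) (by norm_num)).elim
  · exact (no_card h (NotCT.Orders.m22 hK) (by norm_num)).elim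
  · exact (no_card h (NotCT.Orders.m23 hK) (by norm_num)).elim
  · exact (no_card h (NotCT.Orders.m24 hK) (by norm_num)).elim
  · exact (no_card h (NotCT.Orders.j1 hK) (by norm_num)).elim
  · exact (no_card h (NotCT.Orders.j2 hK) (by norm_num)).elim
  · exact (no_card h (NotCT.Orders.j3 hK) (by norm_num)).elim
  · exact (no_card h (NotCT.Orders.j4 hK) (by norm_num)).elim
  · exact (co1 hK h).elim
  · exact (co2 hK h).elim
  · exact (no_card h (NotCT.Orders.co3 hK) (by norm_num)).elim
  · exact (no_card h (NotCT.Orders.mcl hK) (by norm_num)).elim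
  · exact (no_card h (NotCT.Orders.hs hK) (by norm_num)).elim
  · exact (no_card h (NotCT.Orders.suz hK) (by norm_num)).elim
  · exact (no_card h (NotCT.Orders.he hK) (by norm_num)).elim
  · exact (no_card h (NotCT.Orders.ru hK) (by norm_num)).elim
  · exact (no_card h (NotCT.Orders.on hK) (by norm_num)).elim
  · exact (no_card h (NotCT.Orders.ly hK) (by norm_num)).elim
  · exact Or.inl hK
  · exact (fi23 hK h).elim
  · exact Or.inr (Or.inl hK)
  · exact (no_card h (NotCT.Orders.hn hK) (by norm_num)).elim
  · exact (thompson hK h).elim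
  · exact Or.inr (Or.inr (Or.inl hK))
  · exact Or.inr (Or.inr (Or.inr hK))

end Cfsg.Agent.H265.SpSix
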